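import Cfsg.Agent.BlocksB.CentralizerDefect.Basic

/-!
# The members of a block with defect group `D` when `G = D · C(D)`
-/

set_option autoImplicit false

namespace CfsgLib.CentralizerDefect

open Cfsg Finset CfsgLib.Block CfsgLib.Block.Chr CfsgLib.Char
open scoped ComplexConjugate

attribute [local instance] Classical.propDecidable

universe u

variable {G : Type u} [Group G] [Fintype G] {p : ℕ} [Fact p.Prime] {M : Ideal AlgInt} [M.IsPrime]
  {D : Subgroup G} {χ : IrrCharacter G}

theorem setting_of_defectGroup (hM : IsPModular p M) (hD : IsPGroup p D)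
    (hG : D ⊔ Subgroup.centralizer (D : Set G) = ⊤) {B : Set (IrrCharacter G)} (hB : IsPBlock M B)
    (hBD : IsDefectGroup p M B D) (hχ : χ ∈ B) (hker : ∀ y ∈ D, (χ : G → ℂ) y = (χ : G → ℂ) 1) :
    Setting p D χ := by
  have hp : p.Prime := Fact.out
  haveI hDn : D.Normal := by
    refine Subgroup.normalizer_eq_top_iff.1 (top_le_iff.1 ?_)
    rw [← hG]
    exact sup_le Subgroup.le_normalizer (Subgroup.centralizer_le_normalizer (D : Set G))
  refine ⟨hD, hG, hker, le_antisymm ?_ ?_⟩
  · obtain ⟨φ, hφ⟩ := exists_quotient_irr D χ hker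
    haveI := Fintype.ofFinite (G ⧸ D)
    have hd : charDegree (φ : G ⧸ D → ℂ) = charDegree (χ : G → ℂ) := by
      unfold Cfsg.charDegree
      rw [hφ 1]
      rfl
    have hdvd : charDegree (χ : G → ℂ) ∣ D.index := by
      rw [← hd, Subgroup.index_eq_card]; exact CfsgLib.Block.charDegree_dvd_card φ
    exact (Nat.factorization_le_iff_dvd (irr_one χ).2.ne' Subgroup.index_ne_zero_of_finite).2 hdvd p
  · have h1 := card_defectGroup hM hB hBD
    have h2 : (Nat.card G).factorization p = (Nat.card D).factorization p + D.index.factorization p := by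
      rw [← Subgroup.card_mul_index D, Nat.factorization_mul Nat.card_pos.ne' Subgroup.index_ne_zero_of_finite,
        Finsupp.add_apply]
    have h3 : (Nat.card D).factorization p = blockDefect p B := by
      rw [h1, hp.factorization_pow, Finsupp.single_eq_same]
    have h4 : sInf ((fun ψ : IrrCharacter G => (charDegree (ψ : G → ℂ)).factorization p) '' B) ≤
        (charDegree (χ : G → ℂ)).factorization p := Nat.sInf_le ⟨χ, hχ, rfl⟩
    rw [blockDefect] at h3
    omega

/-- The member `θ_ζ`. -/
noncomputable def thetaIrr [Fintype D] (S : Setting p D χ) (ζ : IrrCharacter D) : IrrCharacter G :=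
  ⟨theta p D χ (ζ : D → ℂ), S.isIrr_theta ζ.2⟩

theorem sameBlock_theta [Fintype D] (hM : IsPModular p M) (S : Setting p D χ) (ζ : IrrCharacter D) :
    SameBlock M (χ : G → ℂ) (thetaIrr S ζ : G → ℂ) := by
  refine sameBlock_of_regular hM χ (thetaIrr S ζ) fun g hg => ?_
  have h : centralChar (thetaIrr S ζ : G → ℂ) g = centralChar (χ : G → ℂ) g := by
    show _ * theta p D χ (ζ : D → ℂ) g / theta p D χ (ζ : D → ℂ) 1 = _ * _ / _
    rw [theta_reg S.pgroup _ hg, theta_one S.pgroup]
    have := irr_one_ne_zero χ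
    have := irr_one_ne_zero ζ
    field_simp
  rw [h, sub_self]
  exact memLocalIdeal_zero

theorem sum_theta [Fintype D] (S : Setting p D χ) (g : G) :
    ∑ f ∈ irrFinset D, f 1 * theta p D χ f g = (Nat.card D : ℂ) * regPart p (χ : G → ℂ) g := by
  by_cases h : xp p g ∈ D
  · have h1 := congrFun (leftRegular_eq_sum (G := D)) ⟨xp p g, h⟩
    rw [leftRegular_character, Finset.sum_apply] at h1
    simp only [Pi.smul_apply, smul_eq_mul] at h1
    simp only [theta, dif_pos h, ← mul_assoc, ← Finset.sum_mul, ← h1]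
    by_cases hy : xp p g = 1
    · have hg : ¬ p ∣ orderOf g := by
        have := rp_reg (p := p) g
        rwa [rp, hy, inv_one, one_mul] at this
      rw [if_pos (Subtype.ext hy), regPart_of_not_dvd hg, (parts_of_reg hg).2]
    · rw [if_neg (fun h' => hy (congrArg Subtype.val h')), zero_mul, regPart_of_dvd, mul_zero]
      by_contra hg
      exact hy (parts_of_reg hg).1
  · rw [regPart_of_dvd, mul_zero, Finset.sum_eq_zero]
    · intro f _; rw [theta_eq_zero _ h, mul_zero]
    · by_contra hg
      exact h (by rw [(parts_of_reg hg).1]; exact D.one_mem)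

theorem exists_eq_theta [Fintype D] (hM : IsPModular p M) (S : Setting p D χ) {θ : IrrCharacter G}
    (hθ : SameBlock M (χ : G → ℂ) (θ : G → ℂ)) : ∃ ζ : IrrCharacter D, θ = thetaIrr S ζ := by
  by_contra hne
  push Not at hne
  have hp : p.Prime := Fact.out
  -- the regular part of `χ` is orthogonal to `θ`
  have h0 : classInner (regPart p (χ : G → ℂ)) (θ : G → ℂ) = 0 := by
    have h1 : classInner (∑ f ∈ irrFinset D, f 1 • theta p D χ f) (θ : G → ℂ) = 0 := by
      rw [classInner_sum_left]
      refine Finset.sum_eq_zero fun f hf => ?_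
      have := IsIrrCharacter.classInner_of_ne (S.isIrr_theta (mem_irrFinset.1 hf)) θ.2
        (fun h => hne ⟨f, mem_irrFinset.1 hf⟩ (Subtype.ext h.symm))
      rw [classInner_smul_left, this, mul_zero]
    have h2 : (∑ f ∈ irrFinset D, f 1 • theta p D χ f) = (Nat.card D : ℂ) • regPart p (χ : G → ℂ) := by
      funext g
      simp only [Finset.sum_apply, Pi.smul_apply, smul_eq_mul]
      exact sum_theta S g
    rw [h2, classInner_smul_left, mul_eq_zero] at h1
    exact h1.resolve_left (Nat.cast_ne_zero.2 Nat.card_pos.ne')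
  have ha : IsIntClass M (regPart p fun g => conj ((χ : G → ℂ) g)) := by
    refine ⟨fun g x => ?_, fun g => ?_⟩
    · have ho : orderOf (x * g * x⁻¹) = orderOf g := MulEquiv.orderOf_eq (MulAut.conj x) g
      by_cases h : p ∣ orderOf g
      · rw [regPart_of_dvd h, regPart_of_dvd (ho.symm ▸ h)]
      · rw [regPart_of_not_dvd h, regPart_of_not_dvd (ho.symm ▸ h), isClassFunction_irr χ g x]
    · by_cases h : p ∣ orderOf g
      · rw [regPart_of_dvd h]; exact memLocalRing_zero
      · rw [regPart_of_not_dvd h, conj_irr]; exact irr_mem χ _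
  have h1 : omega (θ : G → ℂ) (regPart p fun g => conj ((χ : G → ℂ) g)) = 0 := by
    rw [CfsgLib.Char.classInner_def, mul_eq_zero] at h0
    have h0' := congrArg conj (h0.resolve_left (inv_ne_zero (Nat.cast_ne_zero.2 Nat.card_pos.ne')))
    rw [map_sum, map_zero] at h0'
    rw [omega, Finset.sum_congr rfl (g := fun g => conj (regPart p (χ : G → ℂ) g * conj ((θ : G → ℂ) g)))
      (fun g _ => ?_), h0', zero_div]
    rw [map_mul, Complex.conj_conj]
    by_cases h : p ∣ orderOf g
    · rw [regPart_of_dvd h, regPart_of_dvd h, map_zero]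
    · rw [regPart_of_not_dvd h, regPart_of_not_dvd h]
  -- but its value at `χ` is a unit
  haveI := Fintype.ofFinite D
  obtain ⟨m, hm⟩ : charDegree (χ : G → ℂ) ∣ D.index := by
    haveI := S.normal
    haveI := Fintype.ofFinite (G ⧸ D)
    obtain ⟨φ, hφ⟩ := exists_quotient_irr D χ S.ker
    have hd : charDegree (φ : G ⧸ D → ℂ) = charDegree (χ : G → ℂ) := by
      unfold Cfsg.charDegree
      rw [hφ 1]
      rfl
    rw [← hd, Subgroup.index_eq_card]; exact CfsgLib.Block.charDegree_dvd_card φ
  have hm0 : m ≠ 0 := fun h => D.index_ne_zero_of_finite (by rw [hm, h, mul_zero])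
  have hmp : ¬ p ∣ m := fun h => by
    have h1 := hp.factorization_pos_of_dvd hm0 h
    have h2 := congrArg (fun n => n.factorization p) hm
    have h3 := S.zero
    simp only [Nat.factorization_mul (irr_one χ).2.ne' hm0, Finsupp.add_apply] at h2
    omega
  have h2 : omega (χ : G → ℂ) (regPart p fun g => conj ((χ : G → ℂ) g)) = (m : ℂ) := by
    have hd0 : (charDegree (χ : G → ℂ) : ℂ) ≠ 0 := Nat.cast_ne_zero.2 (irr_one χ).2.ne'
    have hD0 : (Nat.card D : ℂ) ≠ 0 := Nat.cast_ne_zero.2 Nat.card_pos.ne'
    have h := IsIrrCharacter.classInner_self χ.2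
    rw [CfsgLib.Char.classInner_def, inv_mul_eq_one₀ (Nat.cast_ne_zero.2 Nat.card_pos.ne'),
      S.sum_eq _ (fun g hg => by rw [S.vanish hg, zero_mul]),
      Finset.sum_congr rfl (g := fun _ => ∑ x ∈ univ.filter (fun x : G => ¬ p ∣ orderOf x),
        (χ : G → ℂ) x * conj ((χ : G → ℂ) x)) (fun y _ => Finset.sum_congr rfl fun x _ => by rw [S.mul_apply y.2]),
      Finset.sum_const, Finset.card_univ, nsmul_eq_mul, ← Subgroup.card_mul_index D, hm,
      ← Nat.card_eq_fintype_card, Nat.cast_mul, Nat.cast_mul] at h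
    have h' := mul_left_cancel₀ hD0 h
    rw [omega, (irr_one χ).1, div_eq_iff hd0, mul_comm (m : ℂ), h', Finset.sum_filter]
    refine Finset.sum_congr rfl fun g _ => ?_
    by_cases hg : p ∣ orderOf g
    · rw [regPart_of_dvd hg, zero_mul, if_neg (not_not.2 hg)]
    · rw [regPart_of_not_dvd hg, if_pos hg, mul_comm]
  have hc := omega_cong (M := M) hθ ha
  rw [h1, h2, sub_zero] at hc
  exact hmp ((memLocalIdeal_natCast_iff hM).1 hc)

end CfsgLib.CentralizerDefect
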